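import Cfsg.Agent.H756.PU.Stmts

/-!
# S5258, PU-L2, part 1: the action of `GL₂(K)` on `Q₂` (helper358)
-/

set_option autoImplicit false

namespace Cfsg.Agent.H358.PU

open Cfsg Cfsg.FusionSystem Cfsg.Agent.H756.PU Matrix

universe u

variable {K : Type u} [Field K] [StarRing K]

theorem mul_d_of {x y : UG K} (hx : x.r = 0) : (x * y).d = x.d + y.d - x.u2 * star y.u1 := by
  simp only [UG.d, UG.mul_b, UG.mul_u1, UG.mul_u2, hx, star_add, star_sub, star_mul', star_star, zero_mul, add_zero]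
  ring

theorem star_d (x : UG K) : star x.d = - x.b - x.u1 * star x.u2 := by
  simp only [UG.d, star_sub, star_neg, star_mul', star_star]
  ring

/-- the matrix `M` acts on `Q₂` -/
def qm (M : Matrix (Fin 2) (Fin 2) K) (e : UG K) : UG K where
  r := 0
  u1 := M 0 0 * e.u1 + M 0 1 * e.u2
  u2 := M 1 0 * e.u1 + M 1 1 * e.u2
  a := M 0 0 * (e.a * star (M 0 0) + e.b * star (M 0 1)) + M 0 1 * (e.d * star (M 0 0) + e.c * star (M 0 1))
  b := M 0 0 * (e.a * star (M 1 0) + e.b * star (M 1 1)) + M 0 1 * (e.d * star (M 1 0) + e.c * star (M 1 1))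
  c := M 1 0 * (e.a * star (M 1 0) + e.b * star (M 1 1)) + M 1 1 * (e.d * star (M 1 0) + e.c * star (M 1 1))
  ha := by
    have h1 := e.ha
    have h3 := e.hc
    simp only [UG.d, star_add, star_sub, star_mul', star_star, star_neg]
    linear_combination (M 0 0 * star (M 0 0)) * h1 + (M 0 1 * star (M 0 1)) * h3
  hc := by
    have h1 := e.ha
    have h3 := e.hc
    simp only [UG.d, star_add, star_sub, star_mul', star_star, star_neg]
    linear_combination (M 1 0 * star (M 1 0)) * h1 + (M 1 1 * star (M 1 1)) * h3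

theorem qm_d (M : Matrix (Fin 2) (Fin 2) K) (e : UG K) : (qm M e).d =
    M 1 0 * (e.a * star (M 0 0) + e.b * star (M 0 1)) + M 1 1 * (e.d * star (M 0 0) + e.c * star (M 0 1)) := by
  have h1 := e.ha
  have h3 := e.hc
  simp only [UG.d, qm, star_add, star_sub, star_mul', star_star, star_neg]
  linear_combination (- M 1 0 * star (M 0 0)) * h1 + (- M 1 1 * star (M 0 1)) * h3

theorem qm_mul (M : Matrix (Fin 2) (Fin 2) K) {x y : UG K} (hx : x.r = 0) : qm M (x * y) = qm M x * qm M y := by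
  have hd := mul_d_of (y := y) hx
  ext
  · simp [qm]
  · simp only [qm, UG.mul_u1, UG.mul_u2, hx]; ring
  · simp only [qm, UG.mul_u1, UG.mul_u2, hx]; ring
  · simp only [UG.mul_a]
    simp only [qm, UG.mul_a, UG.mul_b, UG.mul_c, UG.mul_u1, UG.mul_u2, hd, hx, star_add, star_mul', star_zero]
    ring
  · simp only [UG.mul_b]
    simp only [qm, UG.mul_a, UG.mul_b, UG.mul_c, UG.mul_u1, UG.mul_u2, hd, hx, star_add, star_mul', star_zero]
    ring
  · simp only [UG.mul_c]
    simp only [qm, UG.mul_a, UG.mul_b, UG.mul_c, UG.mul_u1, UG.mul_u2, hd, hx, star_add, star_mul', star_zero]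
    ring

theorem qm_qm (M N : Matrix (Fin 2) (Fin 2) K) (x : UG K) : qm M (qm N x) = qm (M * N) x := by
  have hd := qm_d N x
  have e00 : (M * N) 0 0 = M 0 0 * N 0 0 + M 0 1 * N 1 0 := by rw [Matrix.mul_apply, Fin.sum_univ_two]
  have e01 : (M * N) 0 1 = M 0 0 * N 0 1 + M 0 1 * N 1 1 := by rw [Matrix.mul_apply, Fin.sum_univ_two]
  have e10 : (M * N) 1 0 = M 1 0 * N 0 0 + M 1 1 * N 1 0 := by rw [Matrix.mul_apply, Fin.sum_univ_two]
  have e11 : (M * N) 1 1 = M 1 0 * N 0 1 + M 1 1 * N 1 1 := by rw [Matrix.mul_apply, Fin.sum_univ_two]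
  have ha : (qm M (qm N x)).a = M 0 0 * ((qm N x).a * star (M 0 0) + (qm N x).b * star (M 0 1)) +
    M 0 1 * ((qm N x).d * star (M 0 0) + (qm N x).c * star (M 0 1)) := rfl
  have hb : (qm M (qm N x)).b = M 0 0 * ((qm N x).a * star (M 1 0) + (qm N x).b * star (M 1 1)) +
    M 0 1 * ((qm N x).d * star (M 1 0) + (qm N x).c * star (M 1 1)) := rfl
  have hc : (qm M (qm N x)).c = M 1 0 * ((qm N x).a * star (M 1 0) + (qm N x).b * star (M 1 1)) +
    M 1 1 * ((qm N x).d * star (M 1 0) + (qm N x).c * star (M 1 1)) := rfl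
  ext
  · rfl
  · simp only [qm, e00, e01, e10, e11]; ring
  · simp only [qm, e00, e01, e10, e11]; ring
  · rw [ha, hd]; simp only [qm, e00, e01, e10, e11, star_add, star_mul']; ring
  · rw [hb, hd]; simp only [qm, e00, e01, e10, e11, star_add, star_mul']; ring
  · rw [hc, hd]; simp only [qm, e00, e01, e10, e11, star_add, star_mul']; ring

theorem qm_one {x : UG K} (hx : x.r = 0) : qm 1 x = x := by
  ext
  · exact hx.symm
  all_goals simp [qm]

/-- `GL₂(K)` acts on `Q₂` -/
def act : GL (Fin 2) K →* MulAut (Q2 K) where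
  toFun A :=
    { toFun := fun e => ⟨qm A e, rfl⟩
      invFun := fun e => ⟨qm (A⁻¹ : GL (Fin 2) K) e, rfl⟩
      left_inv := fun e => Subtype.ext (by
        change qm _ (qm _ (e : UG K)) = e
        rw [qm_qm, ← Units.val_mul, inv_mul_cancel, Units.val_one, qm_one e.2])
      right_inv := fun e => Subtype.ext (by
        change qm _ (qm _ (e : UG K)) = e
        rw [qm_qm, ← Units.val_mul, mul_inv_cancel, Units.val_one, qm_one e.2])
      map_mul' := fun x y => Subtype.ext (qm_mul _ x.2) }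
  map_one' := by
    ext1 e
    exact Subtype.ext (qm_one e.2)
  map_mul' A B := by
    ext1 e
    exact Subtype.ext (qm_qm _ _ _).symm

theorem act_apply (A : GL (Fin 2) K) (e : Q2 K) : ((act A e : Q2 K) : UG K) = qm A e := rfl

end Cfsg.Agent.H358.PU
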