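import Cfsg.Agent.H358.PU.Act

/-!
# S5258, PU-L2, part 2: facts on the field, centre of `Q₂`, the group `CC` of the automorphisms trivial on `Q₂/V` (helper358)
-/

set_option autoImplicit false

namespace Cfsg.Agent.H358.PU

open Cfsg Cfsg.FusionSystem Cfsg.Agent.H756.PU Matrix

universe u

variable {K : Type u} [Field K] [StarRing K] {p n : ℕ}

theorem one_lt (h : HypK K p n) : 1 < p ^ n :=
  Nat.one_lt_pow (by have := h.hn; omega) h.pp.one_lt

theorem exists_pow_ne (h : HypK K p n) : ∃ θ : K, θ ≠ 0 ∧ θ ^ (p ^ n - 1) ≠ 1 := by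
  have := h.fin
  have := Fintype.ofFinite K
  by_contra hcon
  push Not at hcon
  have hq := one_lt h
  have h1 : ∀ x : Kˣ, x ^ (p ^ n - 1) = 1 := fun x => Units.ext (by
    rw [Units.val_pow_eq_pow_val, hcon x x.ne_zero, Units.val_one])
  obtain ⟨g, hg⟩ := IsCyclic.exists_generator (α := Kˣ)
  have h2 : orderOf g = Nat.card Kˣ := orderOf_eq_card_of_forall_mem_zpowers hg
  have h3 := orderOf_dvd_of_pow_eq_one (h1 g)
  rw [h2, Nat.card_units, h.card] at h3
  have h4 := Nat.le_of_dvd (by omega) h3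
  have h5 : p ^ n < (p ^ n) ^ 2 := by nlinarith
  omega

theorem exists_star_ne (h : HypK K p n) : ∃ θ : K, star θ ≠ θ := by
  obtain ⟨θ, h0, h1⟩ := exists_pow_ne h
  refine ⟨θ, fun h2 => h1 ?_⟩
  rw [h.star_eq] at h2
  have hq := one_lt h
  have h3 : θ * θ ^ (p ^ n - 1) = θ * 1 := by
    rw [← pow_succ', Nat.sub_add_cancel hq.le, h2, mul_one]
  exact mul_left_cancel₀ h0 h3

theorem exists_trace_ne (h : HypK K p n) : ∃ θ : K, θ + star θ ≠ 0 := by
  by_contra hcon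
  push Not at hcon
  obtain ⟨θ, hθ⟩ := exists_star_ne h
  have h1 := hcon 1
  rw [star_one] at h1
  have h2 := hcon θ
  apply hθ
  have h3 : θ + θ = 0 := by
    have : θ + θ = θ * (1 + 1) := by ring
    rw [this, h1, mul_zero]
  linear_combination h2 - h3

theorem exists_of_fix (h : HypK K p n) {x : K} (hx : star x = x) : ∃ a : K, a + star a = x := by
  obtain ⟨θ, hθ⟩ := exists_trace_ne h
  have h1 : star (θ + star θ) = θ + star θ := by rw [star_add, star_star, add_comm]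
  refine ⟨x * (θ + star θ)⁻¹ * θ, ?_⟩
  rw [star_mul', star_mul', star_inv₀, h1, hx, ← mul_add, inv_mul_cancel_right₀ hθ]

theorem exists_of_skew (h : HypK K p n) {a : K} (ha : a + star a = 0) : ∃ x : K, x - star x = a := by
  obtain ⟨θ, hθ⟩ := exists_star_ne h
  have hw : θ - star θ ≠ 0 := fun h1 => hθ (sub_eq_zero.1 h1).symm
  have h1 : star (θ - star θ) = -(θ - star θ) := by rw [star_sub, star_star]; ring
  have h2 : star a = -a := by linear_combination ha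
  have h3 : star (a * (θ - star θ)⁻¹) = a * (θ - star θ)⁻¹ := by
    rw [star_mul', star_inv₀, h1, h2, inv_neg]
    ring
  refine ⟨a * (θ - star θ)⁻¹ * θ, ?_⟩
  rw [star_mul', h3, ← mul_sub, inv_mul_cancel_right₀ hw]

/-- elements of `Q₂` with given `u` -/
theorem exists_u (h : HypK K p n) (x y : K) : ∃ e : Q2 K, (e : UG K).u1 = x ∧ (e : UG K).u2 = y ∧ (e : UG K).b = 0 := by
  have hN : ∀ z : K, star (-(z * star z)) = -(z * star z) := by
    intro z
    rw [star_neg, star_mul', star_star, mul_comm (star z)]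
  obtain ⟨a, ha⟩ := exists_of_fix h (hN x)
  obtain ⟨c, hc⟩ := exists_of_fix h (hN y)
  exact ⟨⟨⟨0, x, y, a, 0, c, by linear_combination ha, by linear_combination hc⟩, rfl⟩, rfl, rfl, rfl⟩

variable (K) in
/-- the automorphisms of `Q₂` trivial on `Q₂/V` -/
def CC : Subgroup (MulAut (Q2 K)) where
  carrier := {α | ∀ e : Q2 K, ((α e : Q2 K) : UG K).u1 = (e : UG K).u1 ∧ ((α e : Q2 K) : UG K).u2 = (e : UG K).u2}
  one_mem' := fun _ => ⟨rfl, rfl⟩
  mul_mem' := by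
    intro α β hα hβ e
    rw [MulAut.mul_apply, (hα _).1, (hα _).2, (hβ _).1, (hβ _).2]
    exact ⟨rfl, rfl⟩
  inv_mem' := by
    intro α hα e
    have h1 := hα (α⁻¹ e)
    rw [MulAut.apply_inv_self] at h1
    exact ⟨h1.1.symm, h1.2.symm⟩

/-- `V` inside `Q₂` -/
def InV (e : Q2 K) : Prop := (e : UG K).u1 = 0 ∧ (e : UG K).u2 = 0

theorem inV_comm {e : Q2 K} (he : InV e) (f : Q2 K) : e * f = f * e := by
  apply Subtype.ext
  have hr : (e : UG K).r = 0 := e.2
  have hr' : (f : UG K).r = 0 := f.2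
  obtain ⟨h1, h2⟩ := he
  change (e : UG K) * f = f * e
  ext
  · simp only [UG.mul_r]; ring
  · simp only [UG.mul_u1, hr, hr']; ring
  · simp only [UG.mul_u2]; ring
  · simp only [UG.mul_a, hr, hr', h1, h2, star_zero]; ring
  · simp only [UG.mul_b, hr, hr', h1, h2, star_zero]; ring
  · simp only [UG.mul_c, h2, star_zero]; ring

theorem inV_iff (h : HypK K p n) {e : Q2 K} : InV e ↔ ∀ f : Q2 K, e * f = f * e := by
  refine ⟨fun he => inV_comm he, fun H => ?_⟩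
  have hr : (e : UG K).r = 0 := e.2
  have hb : ∀ f : Q2 K, (e : UG K).u1 * star (f : UG K).u2 = (f : UG K).u1 * star (e : UG K).u2 := by
    intro f
    have hr' : (f : UG K).r = 0 := f.2
    have h1 : ((e : UG K) * f).b = ((f : UG K) * e).b := congrArg (fun x : Q2 K => (x : UG K).b) (H f)
    rw [UG.mul_b, UG.mul_b, hr, hr'] at h1
    linear_combination -h1
  obtain ⟨f, hf1, hf2, -⟩ := exists_u h (0 : K) 1
  obtain ⟨g, hg1, hg2, -⟩ := exists_u h (1 : K) 0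
  have h1 := hb f
  have h2 := hb g
  rw [hf1, hf2, star_one, mul_one, zero_mul] at h1
  rw [hg1, hg2, star_zero, mul_zero, one_mul] at h2
  exact ⟨h1, star_eq_zero.1 h2.symm⟩

theorem inV_map (h : HypK K p n) (β : MulAut (Q2 K)) {e : Q2 K} (he : InV e) : InV (β e) := by
  rw [inV_iff h] at he ⊢
  intro f
  obtain ⟨g, rfl⟩ := β.surjective f
  rw [← map_mul, ← map_mul, he]

theorem u1_mul (e f : Q2 K) : ((e * f : Q2 K) : UG K).u1 = (e : UG K).u1 + (f : UG K).u1 := by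
  have hr : (e : UG K).r = 0 := e.2
  change ((e : UG K) * f).u1 = _
  rw [UG.mul_u1, hr, zero_mul, add_zero]

theorem u2_mul (e f : Q2 K) : ((e * f : Q2 K) : UG K).u2 = (e : UG K).u2 + (f : UG K).u2 := rfl

theorem u1_inv (e : Q2 K) : ((e⁻¹ : Q2 K) : UG K).u1 = -(e : UG K).u1 := by
  have hr : (e : UG K).r = 0 := e.2
  change ((e : UG K)⁻¹).u1 = _
  rw [UG.inv_u1, hr, zero_mul, add_zero]

theorem u2_inv (e : Q2 K) : ((e⁻¹ : Q2 K) : UG K).u2 = -(e : UG K).u2 := rfl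

theorem inV_iff_eq (e f : Q2 K) : InV (e⁻¹ * f) ↔
    (f : UG K).u1 = (e : UG K).u1 ∧ (f : UG K).u2 = (e : UG K).u2 := by
  unfold InV
  rw [u1_mul, u2_mul, u1_inv, u2_inv]
  constructor
  · rintro ⟨h1, h2⟩
    exact ⟨by linear_combination h1, by linear_combination h2⟩
  · rintro ⟨h1, h2⟩
    exact ⟨by linear_combination h1, by linear_combination h2⟩

theorem mem_CC {α : MulAut (Q2 K)} : α ∈ CC K ↔ ∀ e : Q2 K, InV (e⁻¹ * α e) :=
  ⟨fun h e => (inV_iff_eq _ _).2 (h e), fun h e => (inV_iff_eq _ _).1 (h e)⟩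

theorem CC_normal (h : HypK K p n) : (CC K).Normal := by
  refine ⟨fun α hα β => ?_⟩
  rw [mem_CC] at hα ⊢
  intro e
  have h1 := inV_map h β (hα (β⁻¹ e))
  rw [map_mul, map_inv, MulAut.apply_inv_self] at h1
  exact h1

/-- products commute up to the `v`-part -/
theorem comm_eq {e f e' f' : Q2 K} (h1 : (e' : UG K).u1 = (e : UG K).u1) (h2 : (e' : UG K).u2 = (e : UG K).u2)
    (h3 : (f' : UG K).u1 = (f : UG K).u1) (h4 : (f' : UG K).u2 = (f : UG K).u2) :
    e' * f' * e'⁻¹ * f'⁻¹ = e * f * e⁻¹ * f⁻¹ := by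
  have hv := (inV_iff_eq e e').2 ⟨h1, h2⟩
  have hw := (inV_iff_eq f f').2 ⟨h3, h4⟩
  obtain ⟨v, hv', rfl⟩ : ∃ v, InV v ∧ e' = e * v := ⟨_, hv, by group⟩
  obtain ⟨w, hw', rfl⟩ : ∃ w, InV w ∧ f' = f * w := ⟨_, hw, by group⟩
  have c1 : ∀ x, v * x = x * v := inV_comm hv'
  have c2 : ∀ x, w * x = x * w := inV_comm hw'
  calc e * v * (f * w) * (e * v)⁻¹ * (f * w)⁻¹ = e * (v * f) * (w * v⁻¹) * e⁻¹ * w⁻¹ * f⁻¹ := by group
    _ = e * (f * v) * (v⁻¹ * w) * e⁻¹ * w⁻¹ * f⁻¹ := by rw [c1 f, c2 v⁻¹]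
    _ = e * f * (w * e⁻¹) * w⁻¹ * f⁻¹ := by group
    _ = e * f * (e⁻¹ * w) * w⁻¹ * f⁻¹ := by rw [c2 e⁻¹]
    _ = _ := by group

/-- the elements of `CC` fix the commutators -/
theorem CC_fix_comm {α : MulAut (Q2 K)} (hα : α ∈ CC K) (e f : Q2 K) : α (e * f * e⁻¹ * f⁻¹) = e * f * e⁻¹ * f⁻¹ := by
  rw [map_mul, map_mul, map_mul, map_inv, map_inv]
  exact comm_eq (hα e).1 (hα e).2 (hα f).1 (hα f).2

/-- the coordinates of a commutator -/
theorem comm_coord (e f : Q2 K) : ((e * f * e⁻¹ * f⁻¹ : Q2 K) : UG K).a =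
      (f : UG K).u1 * star (e : UG K).u1 - (e : UG K).u1 * star (f : UG K).u1 ∧
    ((e * f * e⁻¹ * f⁻¹ : Q2 K) : UG K).b =
      (f : UG K).u1 * star (e : UG K).u2 - (e : UG K).u1 * star (f : UG K).u2 ∧
    ((e * f * e⁻¹ * f⁻¹ : Q2 K) : UG K).c =
      (f : UG K).u2 * star (e : UG K).u2 - (e : UG K).u2 * star (f : UG K).u2 ∧ InV (e * f * e⁻¹ * f⁻¹) := by
  have hr : (e : UG K).r = 0 := e.2
  have hr' : (f : UG K).r = 0 := f.2
  set x := e * f * e⁻¹ * f⁻¹ with hx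
  have h0 : InV x := by
    constructor
    · rw [hx, u1_mul, u1_mul, u1_mul, u1_inv, u1_inv]; ring
    · rw [hx, u2_mul, u2_mul, u2_mul, u2_inv, u2_inv]; ring
  have h1 : x * (f * e) = e * f := by rw [hx]; group
  have h2 : (x : UG K) * ((f : UG K) * e) = (e : UG K) * f := congrArg Subtype.val h1
  have ea := congrArg UG.a h2
  have eb := congrArg UG.b h2
  have ec := congrArg UG.c h2
  have hrx : (x : UG K).r = 0 := x.2
  simp only [UG.mul_a, UG.mul_b, UG.mul_c, hr, hr', hrx, h0.1, h0.2, star_zero] at ea eb ec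
  exact ⟨by linear_combination ea, by linear_combination eb, by linear_combination ec, h0⟩

theorem ext_InV {e f : Q2 K} (he : InV e) (hf : InV f) (ha : (e : UG K).a = (f : UG K).a)
    (hb : (e : UG K).b = (f : UG K).b) (hc : (e : UG K).c = (f : UG K).c) : e = f := by
  apply Subtype.ext
  ext
  · exact (show (e : UG K).r = 0 from e.2).trans (show (f : UG K).r = 0 from f.2).symm
  · exact he.1.trans hf.1.symm
  · exact he.2.trans hf.2.symm
  · exact ha
  · exact hb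
  · exact hc

theorem a_mul {e : Q2 K} (he : InV e) (f : Q2 K) : ((e * f : Q2 K) : UG K).a = (e : UG K).a + (f : UG K).a := by
  have hr : (e : UG K).r = 0 := e.2
  change ((e : UG K) * f).a = _
  rw [UG.mul_a, hr, he.1, star_zero]
  ring

theorem b_mul {e : Q2 K} (he : InV e) (f : Q2 K) : ((e * f : Q2 K) : UG K).b = (e : UG K).b + (f : UG K).b := by
  have hr : (e : UG K).r = 0 := e.2
  change ((e : UG K) * f).b = _
  rw [UG.mul_b, hr, he.1]
  ring

theorem c_mul {e : Q2 K} (he : InV e) (f : Q2 K) : ((e * f : Q2 K) : UG K).c = (e : UG K).c + (f : UG K).c := by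
  change ((e : UG K) * f).c = _
  rw [UG.mul_c, he.2]
  ring

theorem InV.mul {e f : Q2 K} (he : InV e) (hf : InV f) : InV (e * f) :=
  ⟨by rw [u1_mul, he.1, hf.1, add_zero], by rw [u2_mul, he.2, hf.2, add_zero]⟩

theorem fix3 {α : MulAut (Q2 K)} {A B C : Q2 K} (hA : α A = A) (hB : α B = B) (hC : α C = C) :
    α (A * (B * C)) = A * (B * C) := by
  rw [map_mul, map_mul, hA, hB, hC]

/-- the elements of `CC` fix `V` -/
theorem CC_fix (h : HypK K p n) {α : MulAut (Q2 K)} (hα : α ∈ CC K) {v : Q2 K} (hv : InV v) : α v = v := by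
  have h0 := (v : UG K).ha
  have h3 := (v : UG K).hc
  rw [hv.1, zero_mul, add_zero] at h0
  rw [hv.2, zero_mul, add_zero] at h3
  obtain ⟨x, hx⟩ := exists_of_skew h h0
  obtain ⟨y, hy⟩ := exists_of_skew h h3
  obtain ⟨e1, e11, e12, -⟩ := exists_u h x 0
  obtain ⟨e2, e21, e22, -⟩ := exists_u h (-1 : K) 0
  obtain ⟨f1, f11, f12, -⟩ := exists_u h (v : UG K).b 0
  obtain ⟨f2, f21, f22, -⟩ := exists_u h (0 : K) (-1)
  obtain ⟨g1, g11, g12, -⟩ := exists_u h 0 y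
  have hs : star (-1 : K) = -1 := by rw [star_neg, star_one]
  obtain ⟨a1, a2, a3, a4⟩ := comm_coord e1 e2
  obtain ⟨b1, b2, b3, b4⟩ := comm_coord f1 f2
  obtain ⟨c1, c2, c3, c4⟩ := comm_coord g1 f2
  have key : v = (e1 * e2 * e1⁻¹ * e2⁻¹) * ((f1 * f2 * f1⁻¹ * f2⁻¹) * (g1 * f2 * g1⁻¹ * f2⁻¹)) := by
    refine ext_InV hv (a4.mul (b4.mul c4)) ?_ ?_ ?_
    · rw [a_mul a4, a_mul b4, a1, b1, c1, e11, e21, f11, f21, g11, hs, star_zero]
      linear_combination -hx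
    · rw [b_mul a4, b_mul b4, a2, b2, c2, e11, e21, e12, e22, f11, f21, f12, f22, g11, g12, hs, star_zero]
      ring
    · rw [c_mul a4, c_mul b4, a3, b3, c3, e12, e22, f12, f22, g12, hs, star_zero]
      linear_combination -hy
  rw [key]
  exact fix3 (CC_fix_comm hα e1 e2) (CC_fix_comm hα f1 f2) (CC_fix_comm hα g1 f2)

/-- `CC` is abelian -/
theorem CC_comm (h : HypK K p n) : ∀ α ∈ CC K, ∀ β ∈ CC K, α * β = β * α := by
  intro α hα β hβ
  ext1 e
  rw [MulAut.mul_apply, MulAut.mul_apply]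
  have h1 := mem_CC.1 hα e
  have h2 := mem_CC.1 hβ e
  have h3 : β e = e * (e⁻¹ * β e) := by group
  have h4 : α e = e * (e⁻¹ * α e) := by group
  have h5 : α (β e) = α e * (e⁻¹ * β e) := by
    conv_lhs => rw [h3]
    rw [map_mul, CC_fix h hα h2]
  have h6 : β (α e) = β e * (e⁻¹ * α e) := by
    conv_lhs => rw [h4]
    rw [map_mul, CC_fix h hβ h1]
  rw [h5, h6]
  calc α e * (e⁻¹ * β e) = e * ((e⁻¹ * α e) * (e⁻¹ * β e)) := by group
    _ = e * ((e⁻¹ * β e) * (e⁻¹ * α e)) := by rw [inV_comm h1]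
    _ = β e * (e⁻¹ * α e) := by group

theorem InV.pow {v : Q2 K} (hv : InV v) (m : ℕ) : InV (v ^ m) ∧ ((v ^ m : Q2 K) : UG K).a = m * (v : UG K).a ∧
    ((v ^ m : Q2 K) : UG K).b = m * (v : UG K).b ∧ ((v ^ m : Q2 K) : UG K).c = m * (v : UG K).c := by
  induction m with
  | zero =>
    rw [pow_zero]
    refine ⟨⟨rfl, rfl⟩, ?_, ?_, ?_⟩ <;> rw [Nat.cast_zero, zero_mul] <;> rfl
  | succ m ih =>
    obtain ⟨h1, h2, h3, h4⟩ := ih
    rw [pow_succ]
    refine ⟨h1.mul hv, ?_, ?_, ?_⟩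
    · rw [a_mul h1, h2]; push_cast; ring
    · rw [b_mul h1, h3]; push_cast; ring
    · rw [c_mul h1, h4]; push_cast; ring

theorem InV.pow_p (h : HypK K p n) {v : Q2 K} (hv : InV v) : v ^ p = 1 := by
  have := h.char
  obtain ⟨h1, h2, h3, h4⟩ := hv.pow p
  have hp : ((p : ℕ) : K) = 0 := CharP.cast_eq_zero K p
  rw [hp, zero_mul] at h2 h3 h4
  exact ext_InV h1 ⟨rfl, rfl⟩ h2 h3 h4

/-- `CC` has exponent `p` -/
theorem CC_pow (h : HypK K p n) {α : MulAut (Q2 K)} (hα : α ∈ CC K) (m : ℕ) (e : Q2 K) :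
    (α ^ m) e = e * (e⁻¹ * α e) ^ m := by
  induction m with
  | zero => rw [pow_zero, pow_zero, mul_one]; rfl
  | succ m ih =>
    have h1 := mem_CC.1 hα e
    rw [pow_succ', MulAut.mul_apply, ih, map_mul, CC_fix h hα (h1.pow m).1, pow_succ' (e⁻¹ * α e), ← mul_assoc e,
      mul_inv_cancel_left]

theorem CC_pgroup (h : HypK K p n) : IsPGroup p (CC K) := by
  rintro ⟨α, hα⟩
  refine ⟨1, Subtype.ext ?_⟩
  rw [pow_one]
  ext1 e
  change (α ^ p) e = e
  rw [CC_pow h hα, (mem_CC.1 hα e).pow_p h, mul_one]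

end Cfsg.Agent.H358.PU
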