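import Cfsg.Agent.H358.PU.Lam

/-!
# S5258, PU-L2: `StL2` from `StL2a`, `StLift`, `StGrp` (helper358)
-/

set_option autoImplicit false
set_option linter.unusedSectionVars false

namespace Cfsg.Agent.H358.PU

open Cfsg Cfsg.Agent.H756.PU

universe u

variable {K : Type u} [Field K] [StarRing K] {p n : ℕ}

section gamma

variable {Γ : Subgroup (MulAut (Q2 K))} {D : Subgroup (MulAut (UG K))}

theorem InnQ_le (hP : Par p (Q2 K) Γ D) : InnQ K ≤ Γ := InnQ_le_aut.trans hP.indu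

/-- `Γ ∩ CC = Inn(Q₂)` -/
theorem gamma_inf (h : HypK K p n) (hP : Par p (Q2 K) Γ D) : Γ ⊓ CC K = InnQ K := by
  apply le_antisymm
  · intro x hx
    have hCn := CC_normal h
    obtain ⟨g, hg, hg'⟩ := hP.syl (Γ ⊓ CC K) inf_le_left ((CC_pgroup h).to_le inf_le_right)
    have h1 : g⁻¹ * x * g ∈ Γ ⊓ CC K := by
      refine ⟨Γ.mul_mem (Γ.mul_mem (Γ.inv_mem hg) hx.1) hg, ?_⟩
      have := hCn.conj_mem x hx.2 g⁻¹
      rwa [inv_inv] at this
    have h2 := hg' _ h1
    have e : g * (g⁻¹ * x * g) * g⁻¹ = x := by group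
    rw [e, aut_eq] at h2
    obtain ⟨s, rfl⟩ := h2
    obtain ⟨f, hf1, hf2, -⟩ := exists_u h (0 : K) 1
    have h3 := (hx.2 f).1
    rw [cj_apply] at h3
    simp only [UG.mul_u1, UG.mul_r, UG.inv_u1, UG.inv_u2, hf1, hf2] at h3
    have hfr : (f : UG K).r = 0 := f.2
    have h4 : s.r = 0 := by
      rw [hfr] at h3
      linear_combination h3
    exact ⟨⟨s, h4⟩, conj_eq_cj _⟩
  · exact le_inf (InnQ_le hP) InnQ_le_CC

/-- `Aut_S(Q₂)` is a Sylow subgroup -/
theorem not_dvd_relIndex [Finite (UG K)] (h : HypK K p n) (hPG : IsPGroup p (⊤ : Subgroup (UG K)))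
    (hP : Par p (Q2 K) Γ D) {L : Subgroup (MulAut (Q2 K))} (hL : L ≤ Γ) (hPL : autInducedBy ⊤ (Q2 K) ≤ L) :
    ¬ p ∣ (autInducedBy ⊤ (Q2 K)).relIndex L := by
  intro hd
  have : Fact p.Prime := ⟨h.pp⟩
  set P := autInducedBy ⊤ (Q2 K) with hPdef
  have hPp : IsPGroup p P := by
    rw [hPdef, aut_eq]
    have h1 : IsPGroup p (UG K) := hPG.of_equiv Subgroup.topEquiv
    exact h1.of_surjective (cj (K := K)).rangeRestrict (cj (K := K)).rangeRestrict_surjective
  obtain ⟨j, hj⟩ := IsPGroup.iff_card.1 hPp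
  have h1 : p ^ (j + 1) ∣ Nat.card L := by
    have h0 := Subgroup.relIndex_mul_relIndex ⊥ P L bot_le hPL
    rw [Subgroup.relIndex_bot_left, Subgroup.relIndex_bot_left, hj] at h0
    rw [← h0, pow_succ]
    exact mul_dvd_mul_left _ hd
  obtain ⟨R, hR⟩ := Sylow.exists_subgroup_card_pow_prime p h1
  have hR' : Nat.card (R.map L.subtype) = p ^ (j + 1) := by
    rw [Subgroup.card_map_of_injective L.subtype_injective, hR]
  have hRp : IsPGroup p (R.map L.subtype) := IsPGroup.of_card hR'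
  obtain ⟨g, -, hg⟩ := hP.syl (R.map L.subtype) ((Subgroup.map_subtype_le R).trans hL) hRp
  have h2 : (R.map L.subtype).map (MulAut.conj g).toMonoidHom ≤ P := by
    rintro _ ⟨x, hx, rfl⟩
    exact hg x hx
  have h3 := Subgroup.card_le_of_le h2
  rw [Subgroup.card_map_of_injective (MulAut.conj g).injective, hR', hj] at h3
  have h4 := Nat.pow_lt_pow_right h.pp.one_lt (Nat.lt_succ_self j)
  exact absurd h3 (not_le.2 h4)

/-- the main step -/
theorem Lam2_le (hL : StLift.{u}) [Finite (UG K)] (h : HypK K p n) (hPG : IsPGroup p (⊤ : Subgroup (UG K)))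
    (hP : Par p (Q2 K) Γ D)
    (hl : ∀ l ∈ Lam2 K, ∃ γ ∈ Γ, ∀ e : Q2 K, ((γ e : Q2 K) : UG K).u1 = ((l e : Q2 K) : UG K).u1 ∧
      ((γ e : Q2 K) : UG K).u2 = ((l e : Q2 K) : UG K).u2)
    (η : Kˣ →* MulAut (Q2 K)) (hη : ∀ t, η t ∈ Γ) (hη' : ∀ t, ∃ B, η t = act B)
    (hfix : ∀ c ∈ CC K, (∀ t, η t * c = c * η t) → c = 1) : Lam2 K ≤ Γ := by
  have hfact : Fact p.Prime := ⟨h.pp⟩
  have hfin := h.fin
  have hCn := CC_normal h
  have hgi := gamma_inf h hP
  have hin := InnQ_normal (K := K)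
  have hfinA : Finite (MulAut (Q2 K)) := inferInstance
  have hCle : CC K ≤ Lam2 K ⊔ CC K := le_sup_right
  have hLC : Γ ⊓ (Lam2 K ⊔ CC K) ⊓ CC K = InnQ K := by
    rw [inf_assoc, inf_eq_right.2 hCle, hgi]
  have hLC' : Lam2 K ⊓ CC K = InnQ K := Lam2_inf h
  have hlC : ∀ {γ l : MulAut (Q2 K)}, (∀ e : Q2 K, ((γ e : Q2 K) : UG K).u1 = ((l e : Q2 K) : UG K).u1 ∧
      ((γ e : Q2 K) : UG K).u2 = ((l e : Q2 K) : UG K).u2) → l⁻¹ * γ ∈ CC K := by
    intro γ l H
    rw [mem_CC]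
    intro e
    have h1 := inV_map h l⁻¹ ((inV_iff_eq (l e) (γ e)).2 (H e))
    rw [map_mul, map_inv, MulAut.inv_apply_self] at h1
    exact h1
  have hnorm : ∀ {N : Subgroup (MulAut (Q2 K))}, (∀ t, ∀ x ∈ N, η t * x * (η t)⁻¹ ∈ N) →
      η.range ≤ Subgroup.normalizer (N : Set (MulAut (Q2 K))) := by
    intro N H
    rintro _ ⟨t, rfl⟩
    rw [Subgroup.mem_normalizer_iff]
    intro x
    refine ⟨H t x, fun hx => ?_⟩
    have h1 := H t⁻¹ _ hx
    rw [map_inv] at h1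
    have e : (η t)⁻¹ * (η t * x * (η t)⁻¹) * (η t)⁻¹⁻¹ = x := by group
    rwa [e] at h1
  have key : Γ ⊓ (Lam2 K ⊔ CC K) = Lam2 K := by
    refine hL (p := p) (CC K) (Γ ⊓ (Lam2 K ⊔ CC K)) (Lam2 K) (autInducedBy ⊤ (Q2 K)) η.range hCn (CC_comm h)
      (CC_pgroup h) ?_ (hLC.trans hLC'.symm) (le_inf hP.indu (le_sup_left.trans le_sup_left)) le_sup_left
      (hLC.le.trans InnQ_le_aut) (not_dvd_relIndex h hPG hP inf_le_left
        (le_inf hP.indu (le_sup_left.trans le_sup_left))) ?_ ?_ ?_ ?_ ?_ ?_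
    · apply le_antisymm
      · exact sup_le inf_le_right le_sup_right
      · refine sup_le ?_ le_sup_right
        intro l hll
        obtain ⟨γ, hγ, H⟩ := hl l hll
        have h1 := hlC H
        have h2 : γ ∈ Lam2 K ⊔ CC K := by
          have e : γ = l * (l⁻¹ * γ) := by group
          rw [e]
          exact mul_mem (Subgroup.mem_sup_left hll) (Subgroup.mem_sup_right h1)
        have e : l = γ * (l⁻¹ * γ)⁻¹ := by group
        rw [e]
        exact mul_mem (Subgroup.mem_sup_left ⟨hγ, h2⟩) (Subgroup.mem_sup_right (inv_mem h1))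
    · rw [hLC, Subgroup.normalizer_eq_top_iff.2 hin]
      exact le_top
    · rw [hLC, Subgroup.normalizer_eq_top_iff.2 hin]
      exact le_top
    · refine hnorm fun t x hx => ⟨Γ.mul_mem (Γ.mul_mem (hη t) hx.1) (Γ.inv_mem (hη t)), ?_⟩
      obtain ⟨B, hB⟩ := hη' t
      have h1 : Lam2 K ⊔ CC K ≤ (Lam2 K ⊔ CC K).comap (MulAut.conj (η t)).toMonoidHom := by
        refine sup_le ?_ ?_
        · intro l hl
          refine Subgroup.mem_sup_left ?_
          change η t * l * (η t)⁻¹ ∈ Lam2 K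
          rw [hB]
          exact act_conj_mem B hl
        · intro c hc
          exact Subgroup.mem_sup_right (hCn.conj_mem c hc _)
      exact h1 hx.2
    · refine hnorm fun t x hx => ?_
      obtain ⟨B, hB⟩ := hη' t
      rw [hB]
      exact act_conj_mem B hx
    · have h1 : Nat.card η.range ∣ Nat.card Kˣ := Subgroup.card_range_dvd η
      rw [Nat.card_units, h.card] at h1
      refine Nat.Coprime.coprime_dvd_left h1 ?_
      rw [Nat.coprime_comm, Nat.Prime.coprime_iff_not_dvd h.pp]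
      intro h2
      have h3 : p ∣ (p ^ n) ^ 2 := by
        rw [← pow_mul]
        exact dvd_pow_self p (by have := h.hn; omega)
      have h4 : 1 ≤ (p ^ n) ^ 2 := Nat.one_le_iff_ne_zero.2 (pow_ne_zero _ (pow_ne_zero _ h.pp.ne_zero))
      have h5 := (Nat.dvd_sub_iff_right h4 h3).1 h2
      exact h.pp.one_lt.ne' (Nat.dvd_one.1 h5)
    · intro c hc H
      exact hfix c hc fun t => H _ ⟨t, rfl⟩
  rw [← key]
  exact inf_le_left

end gamma

end Cfsg.Agent.H358.PU
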