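import Cfsg.Agent.H358.PU.L2

/-!
# S5258, PU-L2: `StL2` from `StL2a`, `StLift`, `StGrp`: the end (helper358)
-/

set_option autoImplicit false
set_option linter.unusedSectionVars false

namespace Cfsg.Agent.H358.PU

open Cfsg Cfsg.Agent.H756.PU

universe u

variable {K : Type u} [Field K] [StarRing K] {p n : ℕ}

theorem exists_pow_ne' (h : HypK K p n) {m : ℕ} (hm : 0 < m) (hm' : m < (p ^ n) ^ 2 - 1) :
    ∃ θ : K, θ ≠ 0 ∧ θ ^ m ≠ 1 := by
  have := h.fin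
  have := Fintype.ofFinite K
  by_contra hcon
  push Not at hcon
  have h1 : ∀ x : Kˣ, x ^ m = 1 := fun x => Units.ext (by
    rw [Units.val_pow_eq_pow_val, hcon x x.ne_zero, Units.val_one])
  obtain ⟨g, hg⟩ := IsCyclic.exists_generator (α := Kˣ)
  have h2 : orderOf g = Nat.card Kˣ := orderOf_eq_card_of_forall_mem_zpowers hg
  have h3 := orderOf_dvd_of_pow_eq_one (h1 g)
  rw [h2, Nat.card_units, h.card] at h3
  have h4 := Nat.le_of_dvd hm h3
  omega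

theorem pow_card_sub (h : HypK K p n) {θ : K} (hθ : θ ≠ 0) : θ ^ ((p ^ n) ^ 2 - 1) = 1 := by
  have := h.fin
  have := Fintype.ofFinite K
  have h1 := FiniteField.pow_card_sub_one_eq_one θ hθ
  rwa [← Nat.card_eq_fintype_card, h.card] at h1

/-- an element of norm one -/
theorem exists_norm_one (h : HypK K p n) : ∃ t : K, t ≠ 0 ∧ t ≠ 1 ∧ t * star t = 1 := by
  obtain ⟨θ, h0, h1⟩ := exists_pow_ne h
  refine ⟨θ ^ (p ^ n - 1), pow_ne_zero _ h0, h1, ?_⟩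
  rw [h.star_eq, ← pow_succ', ← pow_mul]
  have h2 : (p ^ n - 1) * (p ^ n + 1) = (p ^ n) ^ 2 - 1 := by
    have := Nat.sq_sub_sq (p ^ n) 1
    rw [one_pow, mul_comm] at this
    exact this.symm
  rw [h2, pow_card_sub h h0]

/-- a fixed element -/
theorem exists_fixed (h : HypK K p n) (h2 : p ^ n ≠ 2) : ∃ t : K, t ≠ 0 ∧ t ≠ 1 ∧ star t = t := by
  have hq := one_lt h
  obtain ⟨θ, h0, h1⟩ := exists_pow_ne' h (m := p ^ n + 1) (by omega) (by
    have h3 : 3 ≤ p ^ n := by omega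
    have h4 : 3 * p ^ n ≤ (p ^ n) ^ 2 := by rw [pow_two]; exact Nat.mul_le_mul_right _ h3
    omega)
  refine ⟨θ ^ (p ^ n + 1), pow_ne_zero _ h0, h1, ?_⟩
  rw [h.star_eq, ← pow_mul]
  have h3 : (p ^ n + 1) * p ^ n = ((p ^ n) ^ 2 - 1) + (p ^ n + 1) := by
    have h4 : 1 ≤ (p ^ n) ^ 2 := Nat.one_le_pow _ _ (by omega)
    have h5 : (p ^ n + 1) * p ^ n = (p ^ n) ^ 2 + p ^ n := by ring
    omega
  rw [h3, pow_add, pow_card_sub h h0, one_mul]

/-- the fixed points of a torus element on `CC` -/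
theorem kill (h : HypK K p n) {c : MulAut (Q2 K)} (hc : c ∈ CC K) {x y : Kˣ} (hx : (x : K) ≠ 1) (hy : (y : K) ≠ 1)
    (H : act (dg x y) * c = c * act (dg x y)) (e : Q2 K) : ∃ w : Q2 K,
      ((e⁻¹ * c e : Q2 K) : UG K).a = ((x : K) * star (x : K) - 1) * (w : UG K).a ∧
      ((e⁻¹ * c e : Q2 K) : UG K).b = ((x : K) * star (y : K) - 1) * (w : UG K).b ∧
      ((e⁻¹ * c e : Q2 K) : UG K).c = ((y : K) * star (y : K) - 1) * (w : UG K).c := by
  have hx' : (x : K) - 1 ≠ 0 := sub_ne_zero.2 hx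
  have hy' : (y : K) - 1 ≠ 0 := sub_ne_zero.2 hy
  set A := act (dg x y) with hA
  have hV := mem_CC.1 hc
  obtain ⟨f, f1, f2, -⟩ := exists_u h (((x : K) - 1)⁻¹ * (e : UG K).u1) (((y : K) - 1)⁻¹ * (e : UG K).u2)
  have hA' : ∀ g : Q2 K, ((A g : Q2 K) : UG K) = qm !![(x : K), 0; 0, (y : K)] g := fun g => act_apply _ g
  -- `v` is multiplicative
  have hmul : ∀ g k : Q2 K, (g * k)⁻¹ * c (g * k) = (g⁻¹ * c g) * (k⁻¹ * c k) := by
    intro g k
    have h1 := inV_comm (hV g) k⁻¹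
    calc (g * k)⁻¹ * c (g * k) = k⁻¹ * (g⁻¹ * c g) * c k := by rw [map_mul]; group
      _ = (g⁻¹ * c g) * k⁻¹ * c k := by rw [h1]
      _ = _ := by group
  have hact : ∀ g : Q2 K, (A g)⁻¹ * c (A g) = A (g⁻¹ * c g) := by
    intro g
    have h1 : A (c g) = c (A g) := by
      have := congrArg (fun φ : MulAut (Q2 K) => φ g) H
      exact this
    rw [map_mul, map_inv, h1]
  have hinv : ∀ g : Q2 K, (g⁻¹)⁻¹ * c g⁻¹ = (g⁻¹ * c g)⁻¹ := by
    intro g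
    rw [eq_inv_iff_mul_eq_one, ← hmul, inv_mul_cancel, map_one, inv_one, one_mul]
  -- `e` and `A f * f⁻¹` have the same `u`
  have hu : InV ((A f * f⁻¹)⁻¹ * e) := by
    rw [inV_iff_eq, u1_mul, u2_mul, u1_inv, u2_inv, hA']
    constructor
    · simp only [qm, f1]
      simp
      field_simp
      ring
    · simp only [qm, f2]
      simp
      field_simp
      ring
  obtain ⟨v, hv, hev⟩ : ∃ v, InV v ∧ e = A f * f⁻¹ * v := ⟨_, hu, by group⟩
  have hcv : v⁻¹ * c v = 1 := by rw [CC_fix h hc hv, inv_mul_cancel]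
  have key : e⁻¹ * c e = (f⁻¹ * c f)⁻¹ * A (f⁻¹ * c f) := by
    rw [hev, hmul, hmul, hcv, mul_one, hact, hinv]
    exact inV_comm (by rw [← hact]; exact hV _) _
  obtain ⟨w, hw, hw'⟩ : ∃ w, InV w ∧ w = f⁻¹ * c f := ⟨_, hV f, rfl⟩
  rw [← hw'] at key
  have key2 : w * (e⁻¹ * c e) = A w := by rw [key]; group
  have ea := a_mul hw (e⁻¹ * c e)
  have eb := b_mul hw (e⁻¹ * c e)
  have ec := c_mul hw (e⁻¹ * c e)
  rw [key2, hA'] at ea eb ec
  obtain ⟨z, hz⟩ : ∃ z, z = e⁻¹ * c e := ⟨_, rfl⟩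
  rw [← hz] at ea eb ec ⊢
  refine ⟨w, ?_, ?_, ?_⟩
  · simp [qm] at ea
    linear_combination -ea
  · simp [qm] at eb
    linear_combination -eb
  · simp [qm] at ec
    linear_combination -ec

theorem eq_one_of {c : MulAut (Q2 K)} (hc : c ∈ CC K)
    (H : ∀ e : Q2 K, ((e⁻¹ * c e : Q2 K) : UG K).a = 0 ∧ ((e⁻¹ * c e : Q2 K) : UG K).b = 0 ∧
      ((e⁻¹ * c e : Q2 K) : UG K).c = 0) : c = 1 := by
  ext1 e
  have h1 : e⁻¹ * c e = 1 := ext_InV (mem_CC.1 hc e) ⟨rfl, rfl⟩ (H e).1 (H e).2.1 (H e).2.2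
  rw [MulAut.one_apply]
  exact (inv_mul_eq_one.1 h1).symm

theorem isR_act {α : MulAut (UG K)} {x y : Kˣ} (hα : IsTor α x y (RingEquiv.refl K)) :
    IsR α (act (dg x y)) := by
  intro e
  have hr : (e : UG K).r = 0 := e.2
  rw [act_apply]
  ext
  · rw [hα.r, hr, map_zero, mul_zero]; rfl
  · rw [hα.u1]; simp [qm, dg]
  · rw [hα.u2]; simp [qm, dg]
  · rw [hα.a]; simp [qm, dg]; ring
  · rw [hα.b]; simp [qm, dg]; ring
  · rw [hα.c]; simp [qm, dg]; ring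

theorem mem_of_hasTor (hG : StGrp.{u}) (h : HypK K p n) {Γ : Subgroup (MulAut (Q2 K))} {D : Subgroup (MulAut (UG K))}
    (hP : Par p (Q2 K) Γ D) {f g : K → K} (hT : HasTor D f g) (t x y : Kˣ) (hx : (x : K) = f t) (hy : (y : K) = g t) :
    act (dg x y) ∈ Γ := by
  obtain ⟨-, -, g3, -⟩ := hG h
  obtain ⟨α, hα⟩ := g3 x y (RingEquiv.refl K) x.ne_zero y.ne_zero
  refine hP.D_res α (hT t t.ne_zero α ?_) _ (isR_act hα)
  rw [← hx, ← hy]
  exact hα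

/-- `dg` along two characters -/
def eta (f g : Kˣ →* Kˣ) : Kˣ →* MulAut (Q2 K) where
  toFun t := act (dg (f t) (g t))
  map_one' := by
    have h1 : dg (1 : Kˣ) 1 = 1 := by
      apply Units.ext
      change !![((1 : Kˣ) : K), 0; 0, ((1 : Kˣ) : K)] = 1
      rw [Units.val_one, Matrix.one_fin_two]
    rw [map_one, map_one, h1, map_one]
  map_mul' s t := by rw [map_mul, map_mul, ← dg_mul, map_mul]

theorem l2 (hG : StGrp.{u}) (hA : StL2a.{u}) (hL : StLift.{u}) : StL2.{u} := by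
  intro K _ _ p n h Γ D hP hD
  obtain ⟨h1, h2, h3⟩ := hA h Γ D hP hD
  obtain ⟨g1, g2, -, -⟩ := hG h
  have hfinU : Finite (UG K) := by
    apply Nat.finite_of_card_ne_zero
    rw [g1]
    exact pow_ne_zero _ (pow_ne_zero _ h.pp.ne_zero)
  have m1 : ∀ t : Kˣ, act (dg t t⁻¹) ∈ Γ := fun t =>
    mem_of_hasTor hG h hP h1 t t t⁻¹ rfl (Units.val_inv_eq_inv_val t)
  have hLam : Lam2 K ≤ Γ := by
    obtain ⟨t, t0, t1, tN⟩ := exists_norm_one h
    obtain ⟨t', rfl⟩ : ∃ t' : Kˣ, (t' : K) = t := ⟨Units.mk0 t t0, rfl⟩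
    by_cases hq : p ^ n = 2
    · have m2 : ∀ t : Kˣ, act (dg t t) ∈ Γ := by
        intro t
        have e : dg t t = dg (t * t) 1 * dg t⁻¹ t⁻¹⁻¹ := by
          rw [dg_mul, one_mul, inv_inv, mul_inv_cancel_right]
        rw [e, map_mul]
        exact Γ.mul_mem (mem_of_hasTor hG h hP (hD hq) (t * t) (t * t) 1 rfl Units.val_one) (m1 _)
      refine Lam2_le hL h g2 hP h2 (eta (MonoidHom.id _) (MonoidHom.id _)) m2 (fun t => ⟨_, rfl⟩) ?_
      intro c hc H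
      refine eq_one_of hc fun e => ?_
      obtain ⟨w, ha, hb, hc'⟩ := kill h hc (x := t') (y := t') t1 t1 (H t') e
      rw [ha, hb, hc', tN, sub_self, zero_mul, zero_mul, zero_mul]
      exact ⟨rfl, rfl, rfl⟩
    · obtain ⟨s, s0, s1, sF⟩ := exists_fixed h hq
      obtain ⟨s', rfl⟩ : ∃ s' : Kˣ, (s' : K) = s := ⟨Units.mk0 s s0, rfl⟩
      refine Lam2_le hL h g2 hP h2 (eta (MonoidHom.id _) invMonoidHom) m1 (fun t => ⟨_, rfl⟩) ?_
      have hi : ∀ z : Kˣ, (z : K) ≠ 1 → ((z⁻¹ : Kˣ) : K) ≠ 1 := by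
        intro z hz hz'
        apply hz
        have : z⁻¹ = 1 := Units.ext hz'
        rw [inv_eq_one] at this
        rw [this, Units.val_one]
      intro c hc H
      refine eq_one_of hc fun e => ?_
      obtain ⟨w, ha, -, hc'⟩ := kill h hc (x := t') (y := t'⁻¹) t1 (hi _ t1) (H t') e
      obtain ⟨w', -, hb, -⟩ := kill h hc (x := s') (y := s'⁻¹) s1 (hi _ s1) (H s') e
      refine ⟨?_, ?_, ?_⟩
      · rw [ha, tN, sub_self, zero_mul]
      · have e1 : (s' : K) * star ((s'⁻¹ : Kˣ) : K) = 1 := by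
          rw [Units.val_inv_eq_inv_val, star_inv₀, sF, mul_inv_cancel₀ s0]
        rw [hb, e1, sub_self, zero_mul]
      · have e1 : ((t'⁻¹ : Kˣ) : K) * star ((t'⁻¹ : Kˣ) : K) = 1 := by
          rw [Units.val_inv_eq_inv_val, star_inv₀, ← mul_inv, tN, inv_one]
        rw [hc', e1, sub_self, zero_mul]
  refine ⟨h1, fun γ => ⟨fun hγ => ?_, ?_⟩⟩
  · obtain ⟨l, hl, d, hd, δ, hδ, H⟩ := h3 γ hγ
    have hδΓ := hP.D_res d hd δ hδ
    have hmem : (l * δ)⁻¹ * γ ∈ Γ ⊓ CC K := by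
      refine ⟨Γ.mul_mem (Γ.inv_mem (Γ.mul_mem (hLam hl) hδΓ)) hγ, mem_CC.2 fun e => ?_⟩
      have h5 := inV_map h (l * δ)⁻¹ ((inV_iff_eq ((l * δ) e) (γ e)).2 (H e))
      rw [map_mul, map_inv, MulAut.inv_apply_self] at h5
      exact h5
    rw [gamma_inf h hP] at hmem
    obtain ⟨q, hq⟩ := hmem
    refine ⟨l * (δ * MulAut.conj q * δ⁻¹), (Lam2 K).mul_mem hl ?_, d, hd, δ, hδ, ?_⟩
    · rw [aut_conj']
      exact Subgroup.mem_sup_left (InnQ_le_aut ⟨_, rfl⟩)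
    · have e : γ = l * δ * ((l * δ)⁻¹ * γ) := by group
      rw [e, ← hq]
      group
  · rintro ⟨l, hl, d, hd, δ, hδ, rfl⟩
    exact Γ.mul_mem (hLam hl) (hP.D_res d hd δ hδ)

end Cfsg.Agent.H358.PU
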