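import Cfsg.Agent.H358.PU.Fld

/-!
# S5258, PU-L2, part 3: `Lam2 = Inn(Q₂) SL₂(K)` (helper358)
-/

set_option autoImplicit false
set_option linter.unusedSectionVars false
set_option linter.unusedSimpArgs false

namespace Cfsg.Agent.H358.PU

open Cfsg Cfsg.FusionSystem Cfsg.Agent.H756.PU Matrix

universe u

variable {K : Type u} [Field K] [StarRing K] {p n : ℕ}

instance Q2_normal : (Q2 K).Normal := ⟨fun x hx g => by
  have hr : x.r = 0 := hx
  change (g * x * g⁻¹).r = 0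
  simp [hr]⟩

/-- conjugation by the elements of `UG K` -/
def cj : UG K →* MulAut (Q2 K) := MulAut.conjNormal

theorem cj_apply (g : UG K) (e : Q2 K) : ((cj g e : Q2 K) : UG K) = g * e * g⁻¹ := MulAut.conjNormal_apply g e

theorem aut_eq : autInducedBy ⊤ (Q2 K) = (cj (K := K)).range := by
  apply le_antisymm
  · unfold autInducedBy
    rw [Subgroup.closure_le]
    rintro α ⟨g, -, hg⟩
    refine ⟨g, ?_⟩
    ext1 e
    exact Subtype.ext ((cj_apply g e).trans (hg e).symm)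
  · rintro _ ⟨g, rfl⟩
    exact Subgroup.subset_closure ⟨g, Subgroup.mem_top g, fun e => cj_apply g e⟩

theorem aut_conj {G : Type*} [Group G] (α : MulAut G) (g : G) : α * MulAut.conj g = MulAut.conj (α g) * α := by
  ext x
  rw [MulAut.mul_apply, MulAut.mul_apply, MulAut.conj_apply, MulAut.conj_apply, map_mul, map_mul, map_inv]

theorem aut_conj' {G : Type*} [Group G] (α : MulAut G) (g : G) : α * MulAut.conj g * α⁻¹ = MulAut.conj (α g) := by
  rw [aut_conj, mul_inv_cancel_right]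

variable (K) in
/-- `Inn(Q₂)` -/
def InnQ : Subgroup (MulAut (Q2 K)) := (MulAut.conj : Q2 K →* MulAut (Q2 K)).range

theorem InnQ_normal : (InnQ K).Normal := by
  refine ⟨?_⟩
  rintro _ ⟨q, rfl⟩ α
  exact ⟨α q, (aut_conj' α q).symm⟩

theorem conj_eq_cj (q : Q2 K) : MulAut.conj q = cj (q : UG K) := by
  ext1 e
  exact Subtype.ext (cj_apply _ _).symm

theorem InnQ_le_aut : InnQ K ≤ autInducedBy ⊤ (Q2 K) := by
  rw [aut_eq]
  rintro _ ⟨q, rfl⟩
  exact ⟨q, (conj_eq_cj q).symm⟩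

theorem InnQ_le_CC : InnQ K ≤ CC K := by
  rintro _ ⟨q, rfl⟩ e
  rw [MulAut.conj_apply, u1_mul, u1_mul, u2_mul, u2_mul, u1_inv, u2_inv]
  exact ⟨by ring, by ring⟩

/-- root elements -/
def rt (r : K) : UG K := ⟨r, 0, 0, 0, 0, 0, by simp, by simp⟩

theorem rt_inv (r : K) : (rt r)⁻¹ = rt (-r) := by
  rw [inv_eq_iff_mul_eq_one]
  ext <;> simp [rt, UG.mul_a, UG.mul_b, UG.d]

/-- unipotent matrices -/
def uA (r : K) : GL (Fin 2) K := ⟨!![1, r; 0, 1], !![1, -r; 0, 1],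
  by rw [Matrix.mul_fin_two, Matrix.one_fin_two]; simp, by rw [Matrix.mul_fin_two, Matrix.one_fin_two]; simp⟩

/-- the Weyl element -/
def wA : GL (Fin 2) K := ⟨!![0, 1; -1, 0], !![0, -1; 1, 0],
  by rw [Matrix.mul_fin_two, Matrix.one_fin_two]; simp, by rw [Matrix.mul_fin_two, Matrix.one_fin_two]; simp⟩

/-- diagonal matrices -/
def dg (x y : Kˣ) : GL (Fin 2) K := ⟨!![(x : K), 0; 0, (y : K)], !![((x⁻¹ : Kˣ) : K), 0; 0, ((y⁻¹ : Kˣ) : K)],
  by rw [Matrix.mul_fin_two, Matrix.one_fin_two]; simp, by rw [Matrix.mul_fin_two, Matrix.one_fin_two]; simp⟩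

theorem dg_mul (x y x' y' : Kˣ) : dg x y * dg x' y' = dg (x * x') (y * y') := by
  apply Units.ext
  change !![(x : K), 0; 0, (y : K)] * !![(x' : K), 0; 0, (y' : K)] = !![((x * x' : Kˣ) : K), 0; 0, ((y * y' : Kˣ) : K)]
  rw [Matrix.mul_fin_two]
  simp

theorem act_uA (r : K) : act (uA r) = cj (rt r) := by
  ext1 e
  apply Subtype.ext
  rw [act_apply, cj_apply, rt_inv]
  have hr : (e : UG K).r = 0 := e.2
  ext
  · simp [qm, rt, hr]
  · simp [qm, rt, uA, hr]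
  · simp [qm, rt, uA, hr]
  · simp [qm, rt, uA, UG.mul_a, UG.mul_b, UG.d, hr]; ring
  · simp [qm, rt, uA, UG.mul_a, UG.mul_b, UG.d, hr]
  · simp [qm, rt, uA, UG.mul_a, UG.mul_b, UG.d, hr]

theorem isW2_act : IsW2 (act (K := K) wA) := by
  refine ⟨fun e => ?_, fun e => ?_, fun e => ?_, fun e => ?_, fun e => ?_⟩ <;> rw [act_apply] <;> simp [qm, wA]

theorem eq_act_of_isW2 {γ : MulAut (Q2 K)} (h : IsW2 γ) : γ = act wA := by
  have h' := isW2_act (K := K)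
  ext1 e
  apply Subtype.ext
  ext
  · exact (show ((γ e : Q2 K) : UG K).r = 0 from (γ e).2).trans
      (show ((act wA e : Q2 K) : UG K).r = 0 from (act wA e).2).symm
  · rw [h.u1, h'.u1]
  · rw [h.u2, h'.u2]
  · rw [h.a, h'.a]
  · rw [h.b, h'.b]
  · rw [h.c, h'.c]

variable (K) in
/-- `Inn(Q₂) SL₂(K)` -/
def LQ : Subgroup (MulAut (Q2 K)) where
  carrier := {l | ∃ (q : Q2 K) (A : GL (Fin 2) K), A.det = 1 ∧ l = MulAut.conj q * act A}
  one_mem' := ⟨1, 1, map_one _, by rw [map_one, map_one, mul_one]⟩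
  mul_mem' := by
    rintro _ _ ⟨q, A, hA, rfl⟩ ⟨q', A', hA', rfl⟩
    refine ⟨q * act A q', A * A', by rw [map_mul, hA, hA', mul_one], ?_⟩
    rw [map_mul, map_mul, mul_assoc, ← mul_assoc (act A), aut_conj]
    simp only [mul_assoc]
  inv_mem' := by
    rintro _ ⟨q, A, hA, rfl⟩
    refine ⟨act A⁻¹ q⁻¹, A⁻¹, by rw [map_inv, hA, inv_one], ?_⟩
    rw [_root_.mul_inv_rev, ← map_inv, ← map_inv, aut_conj]

theorem act_mem_LQ {A : GL (Fin 2) K} (hA : A.det = 1) : act A ∈ LQ K := ⟨1, A, hA, by rw [map_one, one_mul]⟩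

theorem conj_mem_LQ (q : Q2 K) : MulAut.conj q ∈ LQ K := ⟨q, 1, map_one _, by rw [map_one, mul_one]⟩

theorem det_uA (r : K) : (uA r).det = 1 := by
  apply Units.ext
  change Matrix.det !![1, r; 0, 1] = 1
  rw [Matrix.det_fin_two_of]
  ring

theorem det_wA : (wA : GL (Fin 2) K).det = 1 := by
  apply Units.ext
  change Matrix.det !![(0 : K), 1; -1, 0] = 1
  rw [Matrix.det_fin_two_of]
  ring

theorem cj_eq (g : UG K) : ∃ q : Q2 K, cj g = MulAut.conj q * act (uA g.r) := by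
  refine ⟨⟨g * (rt g.r)⁻¹, ?_⟩, ?_⟩
  · change (g * (rt g.r)⁻¹).r = 0
    simp [rt]
  · rw [conj_eq_cj, act_uA, ← map_mul, inv_mul_cancel_right]

theorem Lam2_le_LQ : Lam2 K ≤ LQ K := by
  unfold Lam2
  refine sup_le ?_ ?_
  · rw [aut_eq]
    rintro _ ⟨g, rfl⟩
    obtain ⟨q, hq⟩ := cj_eq g
    rw [hq]
    exact mul_mem (conj_mem_LQ q) (act_mem_LQ (det_uA _))
  · rw [Subgroup.closure_le]
    intro γ hγ
    rw [eq_act_of_isW2 hγ]
    exact act_mem_LQ det_wA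

theorem act_uA_mem (r : K) : act (uA r) ∈ Lam2 K := by
  apply Subgroup.mem_sup_left
  rw [aut_eq, act_uA]
  exact ⟨_, rfl⟩

theorem act_wA_mem : act (wA : GL (Fin 2) K) ∈ Lam2 K := by
  apply Subgroup.mem_sup_right
  exact Subgroup.subset_closure isW2_act

theorem act_mem_of_ne {A : GL (Fin 2) K} (hA : A.det = 1) (hc : (A : Matrix (Fin 2) (Fin 2) K) 1 0 ≠ 0) :
    act A ∈ Lam2 K := by
  have hd : (A : Matrix (Fin 2) (Fin 2) K) 0 0 * (A : Matrix (Fin 2) (Fin 2) K) 1 1 -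
      (A : Matrix (Fin 2) (Fin 2) K) 0 1 * (A : Matrix (Fin 2) (Fin 2) K) 1 0 = 1 := by
    rw [← Matrix.det_fin_two]
    exact congrArg Units.val hA
  obtain ⟨a, ha⟩ : ∃ a, a = (A : Matrix (Fin 2) (Fin 2) K) 0 0 := ⟨_, rfl⟩
  obtain ⟨b, hb⟩ : ∃ b, b = (A : Matrix (Fin 2) (Fin 2) K) 0 1 := ⟨_, rfl⟩
  obtain ⟨c, hc'⟩ : ∃ c, c = (A : Matrix (Fin 2) (Fin 2) K) 1 0 := ⟨_, rfl⟩
  obtain ⟨d, hd'⟩ : ∃ d, d = (A : Matrix (Fin 2) (Fin 2) K) 1 1 := ⟨_, rfl⟩
  rw [← ha, ← hb, ← hc', ← hd'] at hd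
  rw [← hc'] at hc
  have key : A = uA ((a - 1) / c) * wA⁻¹ * uA (-c) * wA * uA ((d - 1) / c) := by
    apply Units.ext
    change (A : Matrix (Fin 2) (Fin 2) K) = !![1, (a - 1) / c; 0, 1] * !![0, -1; 1, 0] * !![1, -c; 0, 1] *
      !![0, 1; -1, 0] * !![1, (d - 1) / c; 0, 1]
    rw [Matrix.mul_fin_two, Matrix.mul_fin_two, Matrix.mul_fin_two, Matrix.mul_fin_two, Matrix.eta_fin_two
      (A : Matrix (Fin 2) (Fin 2) K), ← ha, ← hb, ← hc', ← hd']
    congr 1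
    ext i j
    fin_cases i <;> fin_cases j
    · simp; field_simp; ring
    · simp; field_simp; linear_combination -hd
    · simp
    · simp; field_simp; ring
  rw [key, map_mul, map_mul, map_mul, map_mul, map_inv]
  exact mul_mem (mul_mem (mul_mem (mul_mem (act_uA_mem _) (inv_mem act_wA_mem)) (act_uA_mem _)) act_wA_mem)
    (act_uA_mem _)

theorem act_mem {A : GL (Fin 2) K} (hA : A.det = 1) : act A ∈ Lam2 K := by
  by_cases hc : (A : Matrix (Fin 2) (Fin 2) K) 1 0 = 0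
  · have hd : (A : Matrix (Fin 2) (Fin 2) K) 0 0 * (A : Matrix (Fin 2) (Fin 2) K) 1 1 -
        (A : Matrix (Fin 2) (Fin 2) K) 0 1 * (A : Matrix (Fin 2) (Fin 2) K) 1 0 = 1 := by
      rw [← Matrix.det_fin_two]
      exact congrArg Units.val hA
    have h1 : ((wA * A : GL (Fin 2) K) : Matrix (Fin 2) (Fin 2) K) 1 0 ≠ 0 := by
      have h2 : ((wA * A : GL (Fin 2) K) : Matrix (Fin 2) (Fin 2) K) 1 0 = -(A : Matrix (Fin 2) (Fin 2) K) 0 0 := by
        change (!![(0 : K), 1; -1, 0] * (A : Matrix (Fin 2) (Fin 2) K)) 1 0 = _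
        rw [Matrix.mul_apply, Fin.sum_univ_two]
        simp
      rw [h2, neg_ne_zero]
      intro h3
      rw [h3, hc, zero_mul, mul_zero, sub_zero] at hd
      exact zero_ne_one hd
    have h2 := act_mem_of_ne (A := wA * A) (by rw [map_mul, det_wA, hA, mul_one]) h1
    rw [map_mul] at h2
    exact (Subgroup.mul_mem_cancel_left _ act_wA_mem).1 h2
  · exact act_mem_of_ne hA hc

theorem Lam2_eq : Lam2 K = LQ K := by
  refine le_antisymm Lam2_le_LQ ?_
  rintro _ ⟨q, A, hA, rfl⟩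
  exact mul_mem (Subgroup.mem_sup_left (InnQ_le_aut ⟨q, rfl⟩)) (act_mem hA)

theorem act_conj_mem (B : GL (Fin 2) K) {l : MulAut (Q2 K)} (hl : l ∈ Lam2 K) : act B * l * (act B)⁻¹ ∈ Lam2 K := by
  rw [Lam2_eq] at hl ⊢
  obtain ⟨q, A, hA, rfl⟩ := hl
  refine ⟨act B q, B * A * B⁻¹, by rw [map_mul, map_mul, hA, mul_one, map_inv, mul_inv_cancel], ?_⟩
  rw [map_mul, map_mul, map_inv, ← mul_assoc, ← mul_assoc, ← mul_assoc, ← aut_conj]

/-- `Lam2 ∩ CC = Inn(Q₂)` -/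
theorem Lam2_inf (h : HypK K p n) : Lam2 K ⊓ CC K = InnQ K := by
  apply le_antisymm
  · rintro l ⟨hl, hc⟩
    rw [SetLike.mem_coe, Lam2_eq] at hl
    obtain ⟨q, A, hA, rfl⟩ := hl
    have h1 : act A ∈ CC K := (Subgroup.mul_mem_cancel_left _ (InnQ_le_CC ⟨q, rfl⟩)).1 hc
    have h2 : A = 1 := by
      obtain ⟨e, e1, e2, -⟩ := exists_u h (1 : K) 0
      obtain ⟨f, f1, f2, -⟩ := exists_u h (0 : K) 1
      have h3 := h1 e
      have h4 := h1 f
      rw [act_apply] at h3 h4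
      simp only [qm, e1, e2, f1, f2, mul_one, mul_zero, add_zero, zero_add] at h3 h4
      apply Units.ext
      ext i j
      fin_cases i <;> fin_cases j
      · exact h3.1
      · exact h4.1
      · exact h3.2
      · exact h4.2
    rw [h2, map_one, mul_one]
    exact ⟨q, rfl⟩
  · exact le_inf (InnQ_le_aut.trans le_sup_left) InnQ_le_CC

end Cfsg.Agent.H358.PU
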